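import Groth.Prelude.Def_CohProp
import Mathlib.AlgebraicGeometry.Morphisms.Flat
import Mathlib.AlgebraicGeometry.Morphisms.FinitePresentation
import Mathlib.AlgebraicGeometry.Morphisms.QuasiCompact
import Mathlib.RingTheory.IntegralClosure.IntegrallyClosed

/-!
# Nice pairs

`Nice w O`: `w : W ⟶ S` is flat, locally of finite presentation, with geometrically normal fibres, and the open `O` of
`W` is retrocompact and universally fibrewise dense.
-/

set_option autoImplicit false
universe u

open CategoryTheory CategoryTheory.Limits AlgebraicGeometry Opposite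

namespace K635.NP

/-- Nice pairs. -/
structure Nice {W S : Scheme.{u}} (w : W ⟶ S) (O : W.Opens) : Prop where
  flat : Flat w
  lfp : LocallyOfFinitePresentation w
  qc : QuasiCompact O.ι
  normal : ∀ (K : Type u) [Field K] (t : Spec (CommRingCat.of K) ⟶ S) (x : ↥(pullback w t)),
    IsDomain ((pullback w t).presheaf.stalk x) ∧
      IsIntegrallyClosed ((pullback w t).presheaf.stalk x)
  dense : ∀ (K : Type u) [Field K] (t : Spec (CommRingCat.of K) ⟶ S),
    Dense ((pullback.fst w t ⁻¹ᵁ O : (pullback w t).Opens) : Set ↥(pullback w t))

end K635.NP
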